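import Mathlib

/-!
Fixed points in primitive soluble linear groups: a commutator descent.
-/

set_option autoImplicit false
set_option linter.style.haveILetI false

namespace Cfsg.Agent.PrimSol

variable {F : Type*} [Field F] {V : Type*} [AddCommGroup V] [Module F V]
variable {G : Type*} [Group G] (ρ : G →* Module.End F V)

/-- The fixed space of a group element. -/
def fix (g : G) : Submodule F V := LinearMap.ker (ρ g - 1)

lemma mem_fix {g : G} {v : V} : v ∈ fix ρ g ↔ ρ g v = v := by
  rw [fix, LinearMap.mem_ker, LinearMap.sub_apply, Module.End.one_apply, sub_eq_zero]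

lemma apply_inv_cancel (g : G) (v : V) : ρ g (ρ g⁻¹ v) = v := by
  rw [← Module.End.mul_apply, ← map_mul, mul_inv_cancel, map_one, Module.End.one_apply]

lemma inv_apply_cancel (g : G) (v : V) : ρ g⁻¹ (ρ g v) = v := by
  rw [← Module.End.mul_apply, ← map_mul, inv_mul_cancel, map_one, Module.End.one_apply]

lemma apply_injective (g : G) : Function.Injective (ρ g) :=
  Function.LeftInverse.injective (inv_apply_cancel ρ g)

lemma finrank_map_apply (g : G) (W : Submodule F V) :
    Module.finrank F (W.map (ρ g)) = Module.finrank F W :=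
  (Submodule.equivMapOfInjective (ρ g) (apply_injective ρ g) W).finrank_eq.symm

lemma fix_inv (g : G) : fix ρ g⁻¹ = fix ρ g := by
  ext v
  rw [mem_fix, mem_fix]
  constructor
  · intro h
    conv_lhs => rw [← h]
    exact apply_inv_cancel ρ g v
  · intro h
    conv_lhs => rw [← h]
    exact inv_apply_cancel ρ g v

lemma fix_conj (g h : G) : fix ρ (h * g * h⁻¹) = (fix ρ g).map (ρ h) := by
  ext v
  rw [mem_fix, Submodule.mem_map]
  constructor
  · intro hv
    refine ⟨ρ h⁻¹ v, (mem_fix ρ).2 ?_, apply_inv_cancel ρ h v⟩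
    rw [map_mul, map_mul, Module.End.mul_apply, Module.End.mul_apply] at hv
    have := congrArg (ρ h⁻¹) hv
    rwa [inv_apply_cancel] at this
  · rintro ⟨w, hw, rfl⟩
    rw [map_mul, map_mul, Module.End.mul_apply, Module.End.mul_apply, inv_apply_cancel,
      (mem_fix ρ).1 hw]

section
variable [FiniteDimensional F V]

lemma finrank_fix_mul (g h : G) :
    Module.finrank F (fix ρ g) + Module.finrank F (fix ρ h) ≤
      Module.finrank F V + Module.finrank F (fix ρ (g * h)) := by
  have h1 := Submodule.finrank_sup_add_finrank_inf_eq (fix ρ g) (fix ρ h)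
  have h2 : Module.finrank F (fix ρ g ⊓ fix ρ h : Submodule F V) ≤ Module.finrank F (fix ρ (g * h)) :=
    Submodule.finrank_mono fun v hv => (mem_fix ρ).2 (by
      rw [map_mul, Module.End.mul_apply, (mem_fix ρ).1 hv.2, (mem_fix ρ).1 hv.1])
  have h3 := Submodule.finrank_le (fix ρ g ⊔ fix ρ h)
  omega

open scoped commutatorElement in
lemma finrank_fix_commutator (g h : G) :
    2 * Module.finrank F (fix ρ g) ≤ Module.finrank F V + Module.finrank F (fix ρ ⁅g, h⁆) := by
  have h1 := finrank_fix_mul ρ g (h * g⁻¹ * h⁻¹)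
  rw [fix_conj, finrank_map_apply, fix_inv, show g * (h * g⁻¹ * h⁻¹) = ⁅g, h⁆ by
    rw [commutatorElement_def]; group] at h1
  omega

end

/-- Primitivity: no transitive or intransitive system of imprimitivity. -/
def NoDecomp : Prop :=
  ∀ (m t : ℕ) (D : Fin t → Submodule F V), 2 ≤ t → 0 < m → (∀ i, Module.finrank F (D i) = m) →
    iSupIndep D → iSup D = ⊤ → (∀ g : G, ∀ i, ∃ j, (D i).map (ρ g) = D j) → False

/-- Irreducibility. -/
def Irred : Prop := ∀ W : Submodule F V, (∀ g : G, ∀ w ∈ W, ρ g w ∈ W) → W = ⊥ ∨ W = ⊤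

section
variable [FiniteDimensional F V] [Finite G] [Finite V] (hirr : Irred ρ) (hprim : NoDecomp ρ)
  {A : Subgroup G} [A.Normal] (hA : IsMulCommutative A)

/-- The algebra spanned by an abelian normal subgroup. -/
def alg (A : Subgroup G) : Subalgebra F (Module.End F V) := Algebra.adjoin F (ρ '' (A : Set G))

omit [FiniteDimensional F V] [Finite G] [Finite V] [A.Normal] in
include hA in
lemma alg_comm {x y : Module.End F V} (hx : x ∈ alg ρ A) (hy : y ∈ alg ρ A) : x * y = y * x := by
  have h1 : ∀ a ∈ A, ∀ x ∈ alg ρ A, Commute (ρ a) x := fun a ha x hx => by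
    induction hx using Algebra.adjoin_induction with
    | mem x hx =>
      obtain ⟨b, hb, rfl⟩ := hx
      show ρ a * ρ b = ρ b * ρ a
      rw [← map_mul, ← map_mul, show a * b = b * a from congrArg Subtype.val (hA.is_comm.comm ⟨a, ha⟩ ⟨b, hb⟩)]
    | algebraMap r => exact Algebra.commute_algebraMap_right r _
    | add x y _ _ hx hy => exact hx.add_right hy
    | mul x y _ _ hx hy => exact hx.mul_right hy
  suffices Commute x y from this
  induction hx using Algebra.adjoin_induction with
  | mem x hx => obtain ⟨a, ha, rfl⟩ := hx; exact h1 a ha y hy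
  | algebraMap r => exact Algebra.commute_algebraMap_left r _
  | add x z _ _ hx hz => exact hx.add_left hz
  | mul x z _ _ hx hz => exact hx.mul_left hz

omit [FiniteDimensional F V] [Finite G] [Finite V] in
lemma alg_conj (g : G) {x : Module.End F V} (hx : x ∈ alg ρ A) : ρ g * x * ρ g⁻¹ ∈ alg ρ A := by
  induction hx using Algebra.adjoin_induction with
  | mem x hx =>
    obtain ⟨a, ha, rfl⟩ := hx
    rw [← map_mul, ← map_mul]
    exact Algebra.subset_adjoin ⟨_, ‹A.Normal›.conj_mem a ha g, rfl⟩
  | algebraMap r =>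
    rw [← (Algebra.commute_algebraMap_left r (ρ g)).eq, mul_assoc, ← map_mul ρ, mul_inv_cancel, map_one, mul_one]
    exact Subalgebra.algebraMap_mem _ r
  | add x y _ _ hx hy => rw [mul_add, add_mul]; exact add_mem hx hy
  | mul x y _ _ hx hy =>
    have h : ρ g * (x * y) * ρ g⁻¹ = (ρ g * x * ρ g⁻¹) * (ρ g * y * ρ g⁻¹) := by
      simp only [mul_assoc]
      rw [← mul_assoc (ρ g⁻¹) (ρ g), ← map_mul, inv_mul_cancel, map_one, one_mul]
    rw [h]
    exact mul_mem hx hy

include hA hirr in
omit [FiniteDimensional F V] [Finite G] in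
lemma alg_reduced [Nontrivial V] {x : Module.End F V} (hx : x ∈ alg ρ A) {k : ℕ} (hk : x ^ k = 0) : x = 0 := by
  classical
  haveI : Finite (Module.End F V) := Finite.of_injective _ DFunLike.coe_injective
  haveI := Fintype.ofFinite (Module.End F V)
  let s : Finset (Module.End F V) := Finset.univ.filter fun y => y ∈ alg ρ A ∧ IsNilpotent y
  have hex : ∀ t ⊆ s, ∃ v : V, v ≠ 0 ∧ ∀ y ∈ t, y v = 0 := by
    intro t
    induction t using Finset.induction_on with
    | empty => intro _; obtain ⟨v, hv⟩ := exists_ne (0 : V); exact ⟨v, hv, by simp⟩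
    | insert y t hyt ih =>
      intro hsub
      obtain ⟨v, hv, hvt⟩ := ih ((Finset.subset_insert y t).trans hsub)
      obtain ⟨hyA, l, hl⟩ := (Finset.mem_filter.1 (hsub (Finset.mem_insert_self y t))).2
      have hne : ∃ m, (y ^ m) v = 0 := ⟨l, by rw [hl]; rfl⟩
      have hm0 : Nat.find hne ≠ 0 := fun h => hv (by
        have := Nat.find_spec hne
        rwa [h, pow_zero, Module.End.one_apply] at this)
      refine ⟨(y ^ (Nat.find hne - 1)) v, Nat.find_min hne (by omega), fun z hz => ?_⟩
      rcases Finset.mem_insert.1 hz with rfl | hz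
      · rw [← Module.End.mul_apply, ← pow_succ', Nat.sub_add_cancel (Nat.pos_of_ne_zero hm0)]
        exact Nat.find_spec hne
      · have hzA := (Finset.mem_filter.1 (hsub (Finset.mem_insert_of_mem hz))).2.1
        rw [← Module.End.mul_apply, alg_comm ρ hA hzA (pow_mem hyA _), Module.End.mul_apply, hvt z hz,
          map_zero]
  obtain ⟨v, hv, hvs⟩ := hex s subset_rfl
  let W : Submodule F V :=
    { carrier := {w | ∀ y ∈ s, y w = 0}
      zero_mem' := fun y _ => map_zero y
      add_mem' := fun {a b} ha hb y hy => by rw [map_add, ha y hy, hb y hy, add_zero]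
      smul_mem' := fun c w hw y hy => by rw [map_smul, hw y hy, smul_zero] }
  have hW : ∀ g : G, ∀ w ∈ W, ρ g w ∈ W := by
    intro g w hw y hy
    obtain ⟨hyA, l, hl⟩ := (Finset.mem_filter.1 hy).2
    have hy' : ρ g⁻¹ * y * ρ g ∈ s := by
      refine Finset.mem_filter.2 ⟨Finset.mem_univ _, ?_, l, ?_⟩
      · simpa using alg_conj ρ (A := A) g⁻¹ hyA
      · have hp : ∀ j : ℕ, (ρ g⁻¹ * y * ρ g) ^ j = ρ g⁻¹ * y ^ j * ρ g := fun j => by
          induction j with
          | zero => rw [pow_zero, pow_zero, mul_one, ← map_mul, inv_mul_cancel, map_one]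
          | succ j ih =>
            rw [pow_succ, ih, pow_succ]
            simp only [mul_assoc]
            rw [← mul_assoc (ρ g) (ρ g⁻¹), ← map_mul, mul_inv_cancel, map_one, one_mul]
        rw [hp, hl, mul_zero, zero_mul]
    have := congrArg (ρ g) (hw _ hy')
    rwa [Module.End.mul_apply, Module.End.mul_apply, apply_inv_cancel, map_zero] at this
  rcases hirr W hW with h | h
  · exact absurd ((Submodule.mem_bot F).1 (h ▸ (hvs : v ∈ W))) hv
  · exact LinearMap.ext fun w => (h ▸ Submodule.mem_top : w ∈ W) x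
      (Finset.mem_filter.2 ⟨Finset.mem_univ _, hx, k, hk⟩)

include hA hirr hprim in
lemma alg_idem [Nontrivial V] {e₀ : Module.End F V} (he₀ : e₀ ∈ alg ρ A) (hid : e₀ * e₀ = e₀) :
    e₀ = 0 ∨ e₀ = 1 := by
  classical
  haveI : Finite (Module.End F V) := Finite.of_injective _ DFunLike.coe_injective
  haveI := Fintype.ofFinite (Module.End F V)
  haveI := Fintype.ofFinite G
  by_contra hne
  push Not at hne
  obtain ⟨e, he, hmin⟩ := Finset.exists_min_image
    (Finset.univ.filter fun y : Module.End F V => y ∈ alg ρ A ∧ y * y = y ∧ y ≠ 0)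
    (fun y => Module.finrank F (LinearMap.range y))
    ⟨e₀, Finset.mem_filter.2 ⟨Finset.mem_univ _, he₀, hid, hne.1⟩⟩
  obtain ⟨heA, hee, he0⟩ := (Finset.mem_filter.1 he).2
  have hatom : ∀ f ∈ alg ρ A, f * f = f → e * f = 0 ∨ e * f = e := by
    intro f hfA hff
    by_cases h0 : e * f = 0
    · exact Or.inl h0
    right
    have hc := alg_comm ρ hA heA hfA
    have hidem : e * f * (e * f) = e * f := by
      rw [mul_assoc, ← mul_assoc f, ← hc, mul_assoc e f f, hff, ← mul_assoc, hee]
    have hle : LinearMap.range (e * f) ≤ LinearMap.range e := by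
      rintro _ ⟨v, rfl⟩; exact ⟨f v, rfl⟩
    have heq := Submodule.eq_of_le_of_finrank_le hle
      (hmin _ (Finset.mem_filter.2 ⟨Finset.mem_univ _, mul_mem heA hfA, hidem, h0⟩))
    refine LinearMap.ext fun v => ?_
    have hv : e v ∈ LinearMap.range (e * f) := heq ▸ ⟨v, rfl⟩
    obtain ⟨w, hw⟩ := hv
    calc (e * f) v = (e * f * e) v := by rw [mul_assoc, ← hc, ← mul_assoc, hee]
      _ = (e * f) ((e * f) w) := by rw [Module.End.mul_apply, hw]
      _ = e v := by rw [← Module.End.mul_apply, hidem, hw]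
  let c : G → Module.End F V := fun g => ρ g * e * ρ g⁻¹
  have hcA : ∀ g, c g ∈ alg ρ A := fun g => alg_conj ρ g heA
  have hcc : ∀ g, c g * c g = c g := fun g => by
    simp only [c, mul_assoc]
    rw [← mul_assoc (ρ g⁻¹) (ρ g), ← map_mul, inv_mul_cancel, map_one, one_mul, ← mul_assoc e e, hee]
  have horth : ∀ g h, c g ≠ c h → c g * c h = 0 := by
    intro g h hgh
    have key : ∀ g h, c g * c h = 0 ∨ c g * c h = c g := by
      intro g h
      have e1 : c g * c h = ρ g * (e * c (g⁻¹ * h)) * ρ g⁻¹ := by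
        simp only [c, map_mul, mul_inv_rev, inv_inv, mul_assoc]
        rw [← map_mul ρ g g⁻¹, mul_inv_cancel, map_one, mul_one]
      rcases hatom (c (g⁻¹ * h)) (hcA _) (hcc _) with h0 | h0
      · left; rw [e1, h0, mul_zero, zero_mul]
      · right; rw [e1, h0]
    rcases key g h with h1 | h1
    · exact h1
    rcases key h g with h2 | h2
    · rwa [alg_comm ρ hA (hcA h) (hcA g)] at h2
    · exact absurd (h1.symm.trans ((alg_comm ρ hA (hcA g) (hcA h)).trans h2)) hgh
  let O : Finset (Module.End F V) := Finset.univ.image c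
  let D : Fin O.card → Submodule F V := fun i => LinearMap.range ((O.equivFin.symm i : Module.End F V))
  have hO : ∀ i, ∃ g, c g = (O.equivFin.symm i : Module.End F V) := fun i => by
    obtain ⟨g, -, hg⟩ := Finset.mem_image.1 (O.equivFin.symm i).2
    exact ⟨g, hg⟩
  have hrange : ∀ g h, LinearMap.range (c (g * h)) = (LinearMap.range (c h)).map (ρ g) := by
    intro g h
    ext v
    simp only [LinearMap.mem_range, Submodule.mem_map, c]
    constructor
    · rintro ⟨w, rfl⟩
      refine ⟨_, ⟨ρ g⁻¹ w, rfl⟩, ?_⟩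
      simp [map_mul, mul_inv_rev]
    · rintro ⟨_, ⟨w, rfl⟩, rfl⟩
      refine ⟨ρ g w, ?_⟩
      simp [map_mul, mul_inv_rev, inv_apply_cancel]
  have hcD : ∀ g, ∃ i, D i = LinearMap.range (c g) := fun g =>
    ⟨O.equivFin ⟨c g, Finset.mem_image_of_mem _ (Finset.mem_univ g)⟩, by simp [D]⟩
  have hc1 : c 1 = e := by simp [c]
  have hrk : ∀ i, Module.finrank F (D i) = Module.finrank F (LinearMap.range e) := fun i => by
    obtain ⟨g, hg⟩ := hO i
    show Module.finrank F (LinearMap.range (O.equivFin.symm i : Module.End F V)) = _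
    rw [← hg, ← mul_one g, hrange, hc1, finrank_map_apply]
  have hmap : ∀ g : G, ∀ i, ∃ j, (D i).map (ρ g) = D j := fun g i => by
    obtain ⟨h, hh⟩ := hO i
    obtain ⟨j, hj⟩ := hcD (g * h)
    exact ⟨j, by rw [hj, hrange, hh]⟩
  have hpos : 0 < Module.finrank F (LinearMap.range e) := Nat.pos_of_ne_zero fun h =>
    he0 (LinearMap.range_eq_bot.1 (Submodule.finrank_eq_zero.1 h))
  have hindep : iSupIndep D := fun i => by
    rw [Submodule.disjoint_def]
    intro v hv hv'
    obtain ⟨g, hg⟩ := hO i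
    have hle : (⨆ (j) (_ : j ≠ i), D j) ≤ LinearMap.ker (c g) := iSup₂_le fun j hj => by
      obtain ⟨h, hh⟩ := hO j
      rintro _ ⟨w, rfl⟩
      rw [LinearMap.mem_ker, ← hh, ← Module.End.mul_apply, horth g h ?_, LinearMap.zero_apply]
      intro heq
      rw [hg, hh] at heq
      exact hj (O.equivFin.symm.injective (Subtype.ext heq.symm))
    obtain ⟨w, rfl⟩ := hv
    have := LinearMap.mem_ker.1 (hle hv')
    rw [← hg] at this ⊢
    rwa [← Module.End.mul_apply, hcc] at this
  have htop : iSup D = ⊤ := by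
    refine (hirr _ fun g w hw => ?_).resolve_left fun h => ?_
    · have : (iSup D).map (ρ g) ≤ iSup D := by
        rw [Submodule.map_iSup]
        exact iSup_le fun i => by obtain ⟨j, hj⟩ := hmap g i; rw [hj]; exact le_iSup D j
      exact this ⟨w, hw, rfl⟩
    · obtain ⟨i, -⟩ := hcD 1
      have h' := (le_iSup D i).trans h.le
      have := hrk i
      rw [le_bot_iff.1 h', finrank_bot] at this
      omega
  rcases Nat.lt_or_ge O.card 2 with ht | ht
  · obtain ⟨i, hi⟩ := hcD 1
    haveI : Subsingleton (Fin O.card) := Fin.subsingleton_iff_le_one.2 (by omega)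
    haveI : Unique (Fin O.card) := uniqueOfSubsingleton i
    rw [iSup_unique, Subsingleton.elim (default : Fin O.card) i] at htop
    replace htop : D i = ⊤ := htop
    rw [hi, hc1] at htop
    have he1 : e = 1 := LinearMap.ext fun v => by
      obtain ⟨w, rfl⟩ := (htop ▸ Submodule.mem_top : v ∈ LinearMap.range e)
      rw [← Module.End.mul_apply, hee, Module.End.one_apply]
    refine hne.2 (LinearMap.ext fun v => ?_)
    have h1 := hmin e₀ (Finset.mem_filter.2 ⟨Finset.mem_univ _, he₀, hid, hne.1⟩)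
    rw [he1, show (1 : Module.End F V) = LinearMap.id from rfl, LinearMap.range_id, finrank_top] at h1
    have h2 : LinearMap.range e₀ = ⊤ := Submodule.eq_top_of_finrank_eq
      (le_antisymm (Submodule.finrank_le _) h1)
    obtain ⟨w, rfl⟩ := (h2 ▸ Submodule.mem_top : v ∈ LinearMap.range e₀)
    rw [← Module.End.mul_apply, hid, Module.End.one_apply]
  · exact hprim _ _ D ht hpos hrk hindep htop hmap

include hA hirr hprim in
/-- A nontrivial element of an abelian normal subgroup fixes no nonzero vector. -/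
lemma fix_abelian [Nontrivial V] (hρ : Function.Injective ρ) {a : G} (ha : a ∈ A) (ha1 : a ≠ 1) :
    fix ρ a = ⊥ := by
  haveI : Finite (Module.End F V) := Finite.of_injective _ DFunLike.coe_injective
  set x := ρ a - 1 with hx
  have hxA : x ∈ alg ρ A := sub_mem (Algebra.subset_adjoin ⟨a, ha, rfl⟩) (one_mem _)
  obtain ⟨i, j, hij, he⟩ : ∃ i j, i < j ∧ x ^ i = x ^ j := by
    obtain ⟨i, j, hne, he⟩ := Finite.exists_ne_map_eq_of_infinite fun k : ℕ => x ^ k
    rcases lt_or_gt_of_ne hne with h | h
    · exact ⟨i, j, h, he⟩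
    · exact ⟨j, i, h, he.symm⟩
  have hper : ∀ l c, i ≤ c → x ^ (c + l * (j - i)) = x ^ c := by
    intro l
    induction l with
    | zero => intro c _; simp
    | succ l ih =>
      intro c hc
      rw [show c + (l + 1) * (j - i) = (c - i) + j + l * (j - i) by rw [Nat.succ_mul]; omega,
        ih _ (by omega), pow_add, ← he, ← pow_add, Nat.sub_add_cancel hc]
  have hm : i ≤ (i + 1) * (j - i) := le_trans (by omega) (Nat.le_mul_of_pos_right (i + 1) (by omega))
  have hm0 : (i + 1) * (j - i) ≠ 0 := Nat.mul_ne_zero i.succ_ne_zero (by omega)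
  have hid : x ^ ((i + 1) * (j - i)) * x ^ ((i + 1) * (j - i)) = x ^ ((i + 1) * (j - i)) := by
    rw [← pow_add, hper _ _ hm]
  rcases alg_idem ρ hirr hprim hA (pow_mem hxA _) hid with h | h
  · have h0 := alg_reduced ρ hirr hA hxA h
    exact absurd (hρ ((sub_eq_zero.1 h0).trans (map_one ρ).symm)) ha1
  · refine eq_bot_iff.2 fun v hv => (Submodule.mem_bot F).2 ?_
    have hxv : x v = 0 := LinearMap.mem_ker.1 hv
    have h1 := LinearMap.congr_fun h v
    rwa [← Nat.sub_add_cancel (Nat.pos_of_ne_zero hm0), pow_succ, Module.End.mul_apply, hxv, map_zero,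
      Module.End.one_apply, eq_comm] at h1

end

section
variable [FiniteDimensional F V] [Finite G] [Finite V]

open scoped commutatorElement

/-- The fixed space of a nontrivial element has dimension at most three quarters. -/
theorem four_mul_fix_le [Nontrivial V] (hρ : Function.Injective ρ) (hirr : Irred ρ) (hprim : NoDecomp ρ)
    (hsol : IsSolvable G) {g : G} (hg : g ≠ 1) :
    4 * Module.finrank F (fix ρ g) ≤ 3 * Module.finrank F V := by
  classical
  haveI := Fintype.ofFinite (Subgroup G)
  obtain ⟨A, hA, hmax⟩ := Finset.exists_max_image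
    (Finset.univ.filter fun A : Subgroup G => A.Normal ∧ IsMulCommutative A) (fun A => Nat.card A)
    ⟨⊥, Finset.mem_filter.2 ⟨Finset.mem_univ _, inferInstance, ⟨⟨fun a b => Subsingleton.elim _ _⟩⟩⟩⟩
  obtain ⟨hAn, hAc⟩ := (Finset.mem_filter.1 hA).2
  have hAmax : ∀ B : Subgroup G, B.Normal → IsMulCommutative B → A ≤ B → B = A := fun B h1 h2 h3 =>
    (Subgroup.eq_of_le_of_card_ge h3 (hmax B (Finset.mem_filter.2 ⟨Finset.mem_univ _, h1, h2⟩))).symm
  have hfpf : ∀ a ∈ A, a ≠ 1 → Module.finrank F (fix ρ a) = 0 := fun a ha ha1 => by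
    rw [fix_abelian ρ hirr hprim hAc hρ ha ha1, finrank_bot]
  suffices key : ∀ C : Subgroup G, C.Normal → A ≤ C → C ≤ Subgroup.centralizer (A : Set G) → g ∈ C →
      4 * Module.finrank F (fix ρ g) ≤ 3 * Module.finrank F V by
    by_cases hgA : g ∈ Subgroup.centralizer (A : Set G)
    · haveI := hAn
      refine key _ inferInstance (fun a ha => ?_) le_rfl hgA
      rw [Subgroup.mem_centralizer_iff]
      exact fun b hb => congrArg Subtype.val (hAc.is_comm.comm ⟨b, hb⟩ ⟨a, ha⟩)
    · rw [Subgroup.mem_centralizer_iff] at hgA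
      push Not at hgA
      obtain ⟨a, ha, hne⟩ := hgA
      have hy : ⁅g, a⁆ ∈ A := by
        rw [commutatorElement_def]
        exact A.mul_mem (hAn.conj_mem a ha g) (A.inv_mem ha)
      have hy1 : ⁅g, a⁆ ≠ 1 := fun h => hne (commutatorElement_eq_one_iff_mul_comm.1 h).symm
      have := finrank_fix_commutator ρ g a
      rw [hfpf _ hy hy1] at this
      omega
  intro C
  induction hN : Nat.card C using Nat.strong_induction_on generalizing C with
  | _ N ih =>
  intro hCn hAC hCA hgC
  by_cases hle : C ≤ A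
  · rw [hfpf g (hle hgC) hg]; omega
  -- a normal subgroup `D` inside `C`, not in `A`, with commutators in `A`
  let S : ℕ → Subgroup G := fun k => Nat.rec (motive := fun _ => Subgroup G) C (fun _ H => ⁅H, H⁆) k
  have hSn : ∀ k, (S k).Normal := fun k => by
    induction k with
    | zero => exact hCn
    | succ k ihk => haveI := ihk; exact Subgroup.commutator_normal (S k) (S k)
  have hSC : ∀ k, S k ≤ C := fun k => by
    induction k with
    | zero => exact le_rfl
    | succ k ihk =>
      haveI := hSn k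
      exact (Subgroup.commutator_le_right (S k) (S k)).trans ihk
  have hSd : ∀ k, S k ≤ derivedSeries G k := fun k => by
    induction k with
    | zero => exact le_top
    | succ k ihk => exact Subgroup.commutator_mono ihk ihk
  obtain ⟨l, hl⟩ := hsol.solvable
  have hex : ∃ k, S k ≤ A := ⟨l, (hSd l).trans (hl.le.trans bot_le)⟩
  have hk0 : Nat.find hex ≠ 0 := fun h => hle (by
    have := Nat.find_spec hex
    rwa [h] at this)
  set k := Nat.find hex - 1 with hk
  have hDA : ¬ S k ≤ A := Nat.find_min hex (by omega)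
  have hDD : ⁅S k, S k⁆ ≤ A := by
    have := Nat.find_spec hex
    rwa [show Nat.find hex = k + 1 by omega] at this
  haveI := hAn
  haveI := hSn k
  set B := A ⊔ S k with hB
  have hBn : B.Normal := Subgroup.sup_normal A (S k)
  have hBC : B ≤ C := sup_le hAC (hSC k)
  have hcomm : ∀ a ∈ A, ∀ c ∈ C, a * c = c * a := fun a ha c hc =>
    Subgroup.mem_centralizer_iff.1 (hCA hc) a ha
  have hBB : ∀ x ∈ B, ∀ y ∈ B, ⁅x, y⁆ ∈ A := by
    intro x hx y hy
    obtain ⟨a, ha, d, hd, rfl⟩ := Subgroup.mem_sup_of_normal_left.1 hx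
    obtain ⟨a', ha', d', hd', rfl⟩ := Subgroup.mem_sup_of_normal_left.1 hy
    have e : ⁅a * d, a' * d'⁆ = ⁅d, d'⁆ := by
      have c1 : ∀ c ∈ C, a * c * a⁻¹ = c := fun c hc => by rw [hcomm a ha c hc, mul_inv_cancel_right]
      have c2 : ∀ c ∈ C, a' * c * a'⁻¹ = c := fun c hc => by rw [hcomm a' ha' c hc, mul_inv_cancel_right]
      have hd1 := hSC k hd
      have hd2 := hSC k hd'
      calc ⁅a * d, a' * d'⁆
          = a * (d * (a' * d') * d⁻¹) * a⁻¹ * (a' * d')⁻¹ := by rw [commutatorElement_def]; group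
        _ = d * (a' * d') * d⁻¹ * (a' * d')⁻¹ := by
              rw [c1 _ (C.mul_mem (C.mul_mem hd1 (C.mul_mem (hAC ha') hd2)) (C.inv_mem hd1))]
        _ = (d * a' * d⁻¹) * (d * d' * d⁻¹ * d'⁻¹) * a'⁻¹ := by group
        _ = a' * (d * d' * d⁻¹ * d'⁻¹) * a'⁻¹ := by
              rw [show d * a' * d⁻¹ = a' by rw [← hcomm a' ha' d hd1, mul_inv_cancel_right]]
        _ = ⁅d, d'⁆ := by
              rw [c2 _ (C.mul_mem (C.mul_mem (C.mul_mem hd1 hd2) (C.inv_mem hd1)) (C.inv_mem hd2)),
                commutatorElement_def]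
    rw [e]
    exact hDD (Subgroup.commutator_mem_commutator hd hd')
  haveI := hBn
  have hZB : B ⊓ Subgroup.centralizer (B : Set G) = A := by
    have h2 : IsMulCommutative (B ⊓ Subgroup.centralizer (B : Set G) : Subgroup G) :=
      ⟨⟨fun x y => Subtype.ext (Subgroup.mem_centralizer_iff.1 y.2.2 _ x.2.1)⟩⟩
    have h3 : A ≤ B ⊓ Subgroup.centralizer (B : Set G) :=
      le_inf le_sup_left fun a ha => Subgroup.mem_centralizer_iff.2 fun b hb => (hcomm a ha b (hBC hb)).symm
    exact hAmax _ inferInstance h2 h3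
  have hhalf : ∀ y ∈ B, y ∉ A → 2 * Module.finrank F (fix ρ y) ≤ Module.finrank F V := by
    intro y hy hyA
    have hnc : y ∉ Subgroup.centralizer (B : Set G) := fun h => hyA (hZB ▸ ⟨hy, h⟩)
    rw [Subgroup.mem_centralizer_iff] at hnc
    push Not at hnc
    obtain ⟨b, hb, hne⟩ := hnc
    have := finrank_fix_commutator ρ y b
    rw [hfpf _ (hBB y hy b hb) fun h => hne (commutatorElement_eq_one_iff_mul_comm.1 h).symm] at this
    omega
  by_cases hgB : ∀ b ∈ B, ⁅g, b⁆ = 1
  · have hgC' : g ∈ C ⊓ Subgroup.centralizer (B : Set G) :=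
      ⟨hgC, Subgroup.mem_centralizer_iff.2 fun b hb => (commutatorElement_eq_one_iff_mul_comm.1 (hgB b hb)).symm⟩
    haveI := hCn
    have hA2 : A ≤ C ⊓ Subgroup.centralizer (B : Set G) := le_inf hAC fun a ha => (hZB.ge ha).2
    refine ih _ ?_ (C ⊓ Subgroup.centralizer (B : Set G)) rfl inferInstance
      hA2 (inf_le_left.trans hCA) hgC'
    rw [← hN]
    refine lt_of_le_of_ne (Subgroup.card_le_of_le inf_le_left) fun heq => ?_
    have h1 := Subgroup.eq_of_le_of_card_ge (inf_le_left (b := Subgroup.centralizer (B : Set G))) heq.ge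
    refine hDA (fun d hd => ?_)
    rw [← hZB]
    have hd2 : d ∈ C ⊓ Subgroup.centralizer (B : Set G) := h1.symm ▸ hSC k hd
    exact ⟨(le_sup_right : S k ≤ B) hd, hd2.2⟩
  · push Not at hgB
    obtain ⟨b, hb, hne⟩ := hgB
    have hy : ⁅g, b⁆ ∈ B := by
      rw [commutatorElement_def]
      exact B.mul_mem (hBn.conj_mem b hb g) (B.inv_mem hb)
    have h1 := finrank_fix_commutator ρ g b
    by_cases hyA : ⁅g, b⁆ ∈ A
    · rw [hfpf _ hyA hne] at h1; omega
    · have := hhalf _ hy hyA
      omega

end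

end Cfsg.Agent.PrimSol
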